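import Groth.Agent.AlgStLib.ReducedSub
import Groth.Agent.AlgSpLib.Sep
import Groth.Agent.AlgSpLib.MorPack
import Groth.Prelude.Def_StCoarse

/-!
# A section of a geometrically bijective morphism from a reduced stack gives a coarse moduli space
-/

set_option autoImplicit false
set_option linter.all false
set_option maxHeartbeats 1000000
set_option backward.isDefEq.respectTransparency false
set_option backward.isDefEq.respectTransparency.types false

universe u

open CategoryTheory CategoryTheory.Limits AlgebraicGeometry Opposite AlgSp FibCat FibLib AlgSpLib AlgStLib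

namespace SecCoarseLib

variable {S : Scheme.{u}}

/-- Two maps from a reduced scheme to an algebraic space agreeing after a finite surjection are equal. -/
theorem eq_of_finite_surjective {N : Sp S} (hN : IsAlgSpace N) {U P : Over S} [IsReduced U.left] (p : P ⟶ U)
    [IsFinite p.left] [Surjective p.left] (a b : (yon S).obj U ⟶ N)
    (h : (yon S).map p ≫ a = (yon S).map p ≫ b) : a = b := by
  have sq := hN.diag.isPullback (Limits.prod.lift a b)
  let i := hN.diag.snd (Limits.prod.lift a b)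
  haveI : LocallyOfFiniteType i.left := ((repWith_lqf_lft_diag hN).2 _ _ _ sq).2
  haveI : Mono (Limits.diag N) := mono_of_mono_fac (show Limits.diag N ≫ prod.fst = 𝟙 N from Limits.prod.lift_fst _ _)
  haveI : Mono ((yon S).map i) := sq.mono_snd_of_mono
  haveI : Mono i := (yon S).mono_of_mono_map inferInstance
  haveI : Mono i.left := inferInstanceAs (Mono ((Over.forget S).map i))
  obtain ⟨l, hl⟩ := (yon S).map_surjective (sq.lift ((yon S).map p ≫ a) ((yon S).map p) (by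
    apply Limits.prod.hom_ext
    · simp only [Category.assoc, Limits.prod.lift_fst, Category.comp_id]
    · simp only [Category.assoc, Limits.prod.lift_snd, Category.comp_id, h]))
  have hli : l ≫ i = p := (yon S).map_injective (by rw [Functor.map_comp, hl, sq.lift_snd])
  have hl' : l.left ≫ i.left = p.left := by rw [← Over.comp_left, hli]
  haveI : UniversallyInjective i.left := inferInstance
  haveI : Surjective i.left := ⟨fun u => by
    obtain ⟨q, hq⟩ := p.left.surjective u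
    exact ⟨l.left q, by rw [← hq, ← hl', Scheme.Hom.comp_apply]⟩⟩
  haveI : Surjective l.left := ⟨fun y => by
    obtain ⟨q, hq⟩ := p.left.surjective (i.left y)
    refine ⟨q, i.left.injective ?_⟩
    rw [← hq, ← hl', Scheme.Hom.comp_apply]⟩
  haveI : UniversallyClosed (l.left ≫ i.left) := by rw [hl']; infer_instance
  haveI : UniversallyClosed i.left := UniversallyClosed.of_comp_surjective l.left i.left
  haveI : IsSeparated i.left := inferInstance
  haveI : IsClosedImmersion i.left := (IsClosedImmersion.iff_isProper_and_mono i.left).2 ⟨{}, inferInstance⟩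
  haveI : IsIso i.left := isIso_of_isClosedImmersion_of_surjective i.left
  haveI : IsIso ((Over.forget S).map i) := inferInstanceAs (IsIso i.left)
  haveI : IsIso i := isIso_of_reflects_iso i (Over.forget S)
  haveI : IsIso ((yon S).map i) := inferInstance
  have h1 := congrArg (· ≫ prod.fst) sq.w
  have h2 := congrArg (· ≫ prod.snd) sq.w
  simp only [Category.assoc, Limits.prod.lift_fst, Limits.prod.lift_snd, Category.comp_id] at h1 h2
  exact (cancel_epi ((yon S).map i)).1 (h1.symm.trans h2)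

variable {𝒳 : AlgSt.Cat S} {Z : Sp S}

theorem fibSec_eq_of_hom (f : 𝒳 ⥤ᵇ AlgSt.ofSp Z) {T : Over S} (x y : 𝒳.p.Fiber T) (m : f.obj x.1 ⟶ f.obj y.1)
    (hm : ∃ h, (AlgSt.ofSp Z).p.map m = eqToHom h) : AlgSt.fibSec f x = AlgSt.fibSec f y := by
  obtain ⟨h, hm⟩ := hm
  have e := m.map_sec
  rw [show m.hom = eqToHom h from hm] at e
  unfold AlgSt.fibSec
  rw [← e]
  erw [← Functor.map_comp_apply]
  rw [← op_comp]
  erw [eqToHom_trans]
  rfl

/-- Geometrically bijective with a section and finite diagonal over a reduced source gives a coarse space. -/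
theorem isCoarseModuli (h𝒳 : AlgSt.IsAlgStack Scheme.fppfPrecoverage 𝒳)
    (hΔ : AlgSt.RepByAlgSpWith AlgSp.IsFiniteMor (FibCat.diag (FibCat.toSelf 𝒳)))
    (hred : AlgSt.SmoothLocally (fun X => IsReduced X) 𝒳)
    (hZ : AlgSp.IsAlgSpace Z) (f : 𝒳 ⥤ᵇ AlgSt.ofSp Z) (hf : AlgSt.GeomPtBij f)
    (s : AlgSt.ofSp Z ⥤ᵇ 𝒳) (ε : BasedFunctor.comp s f ≅ BasedFunctor.id (AlgSt.ofSp Z)) :
    AlgSt.IsCoarseModuli f := by
  haveI := isFibGrpd_of_isAlgStack h𝒳
  let σ : 𝒳 ⥤ᵇ 𝒳 := BasedFunctor.comp f s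
  obtain ⟨U, x, hx, hxs⟩ := h𝒳.atlas
  haveI : IsReduced U.left := hred U x hx
  let x' : AlgSt.ofSch U ⥤ᵇ 𝒳 := BasedFunctor.comp (AlgSt.toOverCat U) x
  haveI : IsFibGrpd (AlgSt.ofSch U).p := Stk.isFibGrpd_ofPsh _
  haveI : IsFibGrpd (fp (toSelf 𝒳) (toSelf 𝒳)).p := isFibGrpd_fp
  have base : ∀ y : 𝒳.obj, 𝒳.p.obj (σ.obj y) = 𝒳.p.obj y := σ.w_obj
  obtain ⟨θ⟩ := nonempty_iso_selfOver (BasedFunctor.comp x' (toSelf 𝒳))
    (BasedFunctor.comp (BasedFunctor.comp x' σ) (toSelf 𝒳))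
  let pr : AlgSt.ofSch U ⥤ᵇ fp (toSelf 𝒳) (toSelf 𝒳) := fpLift x' (BasedFunctor.comp x' σ) θ
  obtain ⟨H, c, hH, ⟨e, he, ⟨β⟩⟩, hc⟩ := (repByAlgSpWith_iff _ _).mp hΔ U pr
  have hcr := AlgSpLib.isFiniteMor_iff.1 hc
  obtain ⟨P, p, g₁, sqP⟩ := hcr.1 (𝟙 ((yon S).obj U))
  haveI : IsFinite p.left := hcr.2 (𝟙 _) g₁ p sqP
  have hg₁ : g₁ ≫ c = (yon S).map p := sqP.w.trans (Category.comp_id _)
  haveI : IsIso g₁ := sqP.isIso_fst_of_isIso
  haveI : Surjective p.left := ⟨fun u => by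
    let K := U.left.residueField u
    let Ω := AlgebraicClosure K
    let η : Spec (CommRingCat.of Ω) ⟶ U.left :=
      Spec.map (CommRingCat.ofHom (algebraMap K Ω)) ≫ U.left.fromSpecResidueField u
    let T : Over S := Over.mk (η ≫ U.hom)
    let ηT : T ⟶ U := Over.homMk η rfl
    let o : (AlgSt.ofSch U).obj := ⟨T, ⟨ηT⟩⟩
    let y : 𝒳.p.Fiber T := ⟨x'.obj o, x'.w_obj o⟩
    let σy : 𝒳.p.Fiber T := ⟨σ.obj (x'.obj o), (base _).trans (x'.w_obj o)⟩
    have hsec : AlgSt.fibSec f σy = AlgSt.fibSec f y := by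
      refine fibSec_eq_of_hom f σy y (ε.hom.toNatTrans.app (f.obj (x'.obj o))) ?_
      haveI := ε.hom.isHomLift' (f.obj (x'.obj o))
      refine ⟨(f.w_obj _).trans ((base _).trans (f.w_obj _).symm), ?_⟩
      rw [IsHomLift.fac' (AlgSt.ofSp Z).p (𝟙 ((AlgSt.ofSp Z).p.obj (f.obj (x'.obj o))))
        (ε.hom.toNatTrans.app (f.obj (x'.obj o)))]
      simp
    obtain ⟨k⟩ := (hf Ω (η ≫ U.hom)).2 y σy hsec.symm
    let k₀ : x'.obj o ≅ σ.obj (x'.obj o) := (Functor.Fiber.fiberInclusion).mapIso k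
    have hk : 𝒳.p.map k₀.inv = eqToHom (base (x'.obj o)) := by
      haveI : 𝒳.p.IsHomLift (𝟙 T) k₀.inv := k.inv.2
      rw [IsHomLift.fac' 𝒳.p (𝟙 T) k₀.inv]
      simp
    have hθ : ∃ h, (selfOver (Over S)).p.map (θ.hom.toNatTrans.app o) = eqToHom h := by
      haveI := θ.hom.isHomLift' o
      refine ⟨((BasedFunctor.comp x' (toSelf 𝒳)).w_obj o).trans
        ((BasedFunctor.comp (BasedFunctor.comp x' σ) (toSelf 𝒳)).w_obj o).symm, ?_⟩
      rw [IsHomLift.fac' (selfOver (Over S)).p (𝟙 ((AlgSt.ofSch U).p.obj o)) (θ.hom.toNatTrans.app o)]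
      simp
    obtain ⟨hθh, hθ⟩ := hθ
    let i₀ : pr.obj o ≅ (diag (toSelf 𝒳)).obj (x'.obj o) :=
      ObjectProperty.isoMk _ (CategoricalPullback.mkIso (Iso.refl _) k₀.symm (by
        change 𝒳.p.map (𝟙 _) ≫ 𝟙 _ = θ.hom.toNatTrans.app o ≫ 𝒳.p.map k₀.inv
        rw [hk, show θ.hom.toNatTrans.app o = eqToHom hθh from hθ]
        refine (Category.comp_id _).trans ((𝒳.p.map_id _).trans ?_)
        simp
        rfl))
    have hi₀ : (fp (toSelf 𝒳) (toSelf 𝒳)).p.IsHomLift (𝟙 ((AlgSt.ofSch U).p.obj o)) i₀.hom :=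
      IsHomLift.of_fac' _ _ _ (x'.w_obj o) (x'.w_obj o) (by
        change 𝒳.p.map (𝟙 _) = _
        simp)
    obtain ⟨z, i, hi⟩ := vertEssSurj_of_isEquivOver he
      (⟨⟨o, x'.obj o, i₀⟩, hi₀⟩ : (fp pr (diag (toSelf 𝒳))).obj)
    let m : (Stk.ofPshMap c.hom).obj z ⟶ o := β.inv.toNatTrans.app z ≫ i.hom.hom.fst
    haveI : IsIso (β.inv.toNatTrans.app z) :=
      ⟨⟨β.hom.toNatTrans.app z,
        congrArg (fun α : Stk.ofPshMap c.hom ⟶ Stk.ofPshMap c.hom => α.toNatTrans.app z) β.inv_hom_id,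
        congrArg (fun α : BasedFunctor.comp e (FibCat.fpFst pr (diag (toSelf 𝒳))) ⟶
          BasedFunctor.comp e (FibCat.fpFst pr (diag (toSelf 𝒳))) => α.toNatTrans.app z) β.hom_inv_id⟩⟩
    haveI : IsIso i.hom.hom.fst :=
      inferInstanceAs (IsIso ((FibCat.fpFst pr (diag (toSelf 𝒳))).map i.hom))
    haveI : IsIso m := inferInstance
    haveI : IsIso m.hom := inferInstanceAs (IsIso ((AlgSt.ofSch U).p.map m))
    obtain ⟨q, hq⟩ := (yon S).map_surjective (yEq.symm z.sec ≫ inv g₁)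
    have h1 : c.hom.app (op z.base) z.sec = ULift.up (q ≫ p) := by
      have : (yEq.symm z.sec ≫ inv g₁) ≫ (yon S).map p = yEq.symm z.sec ≫ c := by
        rw [← hg₁, Category.assoc, IsIso.inv_hom_id_assoc]
      rw [← hq, ← Functor.map_comp] at this
      conv_lhs => rw [← yEq.apply_symm_apply z.sec]
      rw [← yEq_comp, ← this]
      rfl
    have h2 : m.hom ≫ ηT = q ≫ p := by
      have := m.map_sec
      change ULift.up (m.hom ≫ ηT) = c.hom.app (op z.base) z.sec at this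
      exact congrArg ULift.down (this.trans h1)
    have h3 : η = (inv m.hom ≫ q).left ≫ p.left := by
      rw [← Over.comp_left, Category.assoc, ← h2, IsIso.inv_hom_id_assoc]
      rfl
    refine ⟨(inv m.hom ≫ q).left (IsLocalRing.closedPoint Ω), ?_⟩
    rw [← Scheme.Hom.comp_apply, ← h3, Scheme.Hom.comp_apply]
    have := Set.mem_range_self (f := ⇑(U.left.fromSpecResidueField u))
      ((Spec.map (CommRingCat.ofHom (algebraMap K Ω))) (IsLocalRing.closedPoint Ω))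
    rw [Scheme.range_fromSpecResidueField] at this
    exact this⟩
  have hpair : BasedFunctor.comp (Stk.ofPshMap c.hom) x' ≅
      BasedFunctor.comp (Stk.ofPshMap c.hom) (BasedFunctor.comp x' σ) :=
    whiskerRightIso' β.symm x' ≪≫
      whiskerRightIso' (whiskerLeftIso' e (fpIso pr (diag (toSelf 𝒳)))) (FibCat.fpFst _ _) ≪≫
      (whiskerRightIso' (whiskerLeftIso' e (fpIso pr (diag (toSelf 𝒳)))) (FibCat.fpSnd _ _)).symm ≪≫
      whiskerRightIso' β (BasedFunctor.comp x' σ)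
  have key : ∀ (N : Sp S), IsAlgSpace N → ∀ φ : 𝒳 ⥤ᵇ AlgSt.ofSp N,
      Nonempty (BasedFunctor.comp σ φ ≅ φ) := by
    intro N hN φ
    let t₁ : (yon S).obj U ⟶ N := ObjectProperty.homMk (mapOf (BasedFunctor.comp x' φ))
    let t₂ : (yon S).obj U ⟶ N := ObjectProperty.homMk (mapOf (BasedFunctor.comp (BasedFunctor.comp x' σ) φ))
    obtain ⟨a₁⟩ := nonempty_iso_mapOf (BasedFunctor.comp x' φ)
    obtain ⟨a₂⟩ := nonempty_iso_mapOf (BasedFunctor.comp (BasedFunctor.comp x' σ) φ)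
    have ht : c ≫ t₁ = c ≫ t₂ := ObjectProperty.hom_ext _ (eq_of_iso_ofPshMap
      (whiskerLeftIso' (Stk.ofPshMap c.hom) a₁.symm ≪≫ whiskerRightIso' hpair φ ≪≫
        whiskerLeftIso' (Stk.ofPshMap c.hom) a₂))
    have h12 : t₁ = t₂ := eq_of_finite_surjective hN p t₁ t₂ (by
      rw [← hg₁, Category.assoc, Category.assoc, ht])
    have hU : BasedFunctor.comp x' φ ≅ BasedFunctor.comp (BasedFunctor.comp x' σ) φ :=
      a₁ ≪≫ eqToIso (congrArg (fun t : (yon S).obj U ⟶ N => Stk.ofPshMap t.hom) h12) ≪≫ a₂.symm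
    refine nonempty_iso_of_sec fun y => ?_
    let ξ : 𝒳.p.Fiber (𝒳.p.obj y) := Functor.Fiber.mk (p := 𝒳.p) (a := y) rfl
    let u : AlgSt.ofSch (𝒳.p.obj y) ⥤ᵇ 𝒳 := BasedFunctor.comp (AlgSt.toOverCat _) (ofPoint ξ)
    obtain ⟨k⟩ := nonempty_evalAtId_ofPoint_iso ξ
    let V := 𝒳.p.obj y
    obtain ⟨W, d, hW, hd, hd₁⟩ := (repByAlgSpWith_iff _ _).mp (repByAlgSpWith_toOverCat_comp hx) V u
    have hd₃ := prop_of_along good_surjective.bc.precomp_iso (repByAlgSpWith_toOverCat_comp hxs) hd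
    haveI : Sheaf.IsLocallySurjective d := isLocallySurjective_of_fppf hW (IsAlgSpace.yon_obj V) d
      (locP_flat_of_smooth hd₁) (locP_lfp_of_smooth hd₁) hd₃
    obtain ⟨e', he', ⟨β'⟩⟩ := hd
    let v : AlgSt.ofSp W ⥤ᵇ AlgSt.ofSch U := BasedFunctor.comp e' (FibCat.fpSnd u _)
    obtain ⟨αv⟩ := nonempty_iso_mapOf v
    let mU : W ⟶ (yon S).obj U := ObjectProperty.homMk (mapOf v)
    have hv : BasedFunctor.comp (Stk.ofPshMap d.hom) u ≅ BasedFunctor.comp (Stk.ofPshMap mU.hom) x' :=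
      (whiskerRightIso' αv.symm x' ≪≫ (whiskerLeftIso' e' (fpIso u x')).symm ≪≫ whiskerRightIso' β' u).symm
    let s₁ : (yon S).obj V ⟶ N := ObjectProperty.homMk (mapOf (BasedFunctor.comp u (BasedFunctor.comp σ φ)))
    let s₂ : (yon S).obj V ⟶ N := ObjectProperty.homMk (mapOf (BasedFunctor.comp u φ))
    obtain ⟨b₁⟩ := nonempty_iso_mapOf (BasedFunctor.comp u (BasedFunctor.comp σ φ))
    obtain ⟨b₂⟩ := nonempty_iso_mapOf (BasedFunctor.comp u φ)
    have hs : d ≫ s₁ = d ≫ s₂ := ObjectProperty.hom_ext _ (eq_of_iso_ofPshMap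
      (whiskerLeftIso' (Stk.ofPshMap d.hom) b₁.symm ≪≫ whiskerRightIso' hv (BasedFunctor.comp σ φ) ≪≫
        whiskerLeftIso' (Stk.ofPshMap mU.hom) hU.symm ≪≫ whiskerRightIso' hv.symm φ ≪≫
        whiskerLeftIso' (Stk.ofPshMap d.hom) b₂))
    have hs' : s₁ = s₂ := (cancel_epi d).1 hs
    let o : Stk.EltObj ((yon S).obj V).obj := ⟨V, ⟨𝟙 V⟩⟩
    let m : u.obj o ⟶ y := k.hom.1
    have hm : 𝒳.p.map m = eqToHom (u.w_obj o) :=
      haveI : 𝒳.p.IsHomLift (𝟙 V) m := k.hom.2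
      (IsHomLift.fac' 𝒳.p (𝟙 V) m).trans (by simp)
    have ev : ∀ ψ : 𝒳 ⥤ᵇ AlgSt.ofSp N, secOf (BasedFunctor.comp u ψ) o = secOf ψ y := fun ψ => by
      rw [secOf_comp, ← secOf_naturality ψ m, hm, ← Functor.map_comp_apply, ← op_comp]
      simp only [eqToHom_trans, eqToHom_refl, op_id]
      erw [Functor.map_id_apply]
    rw [← ev, ← ev]
    exact congrArg (fun t : (yon S).obj V ⟶ N => t.hom.app _ o.sec) hs'
  refine ⟨⟨hZ, fun N hN φ => ?_⟩, hf⟩
  obtain ⟨hsφ⟩ := nonempty_iso_mapOf (BasedFunctor.comp s φ)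
  obtain ⟨kφ⟩ := key N hN φ
  refine ⟨ObjectProperty.homMk (mapOf (BasedFunctor.comp s φ)), ⟨?_⟩, fun g hg => ?_⟩
  · exact whiskerLeftIso' f hsφ.symm ≪≫ kφ
  · obtain ⟨i⟩ := hg
    exact ObjectProperty.hom_ext _ (eq_of_iso_ofPshMap
      ((whiskerRightIso' ε (AlgSt.ofSpMap g)).symm ≪≫ whiskerLeftIso' s i ≪≫ hsφ))

end SecCoarseLib
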